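import Cfsg.Agent.Dbl.FM1
import Cfsg.Agent.Dbl.FM2
import Cfsg.Agent.Dbl.MG

/-! Involutions acting on a special linear group in characteristic two: the matrix models. -/

set_option autoImplicit false
set_option linter.unusedSectionVars false

namespace CF.Dbl

open Cfsg Subgroup CF.Loc CF.LX CF.Known Matrix SemidirectProduct Module Fm
open scoped commutatorElement

variable {m : ℕ} {F : Type} [Field F] [Finite F] [CharP F 2] {γ δ : Gam m F} {n : Mt m F}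
  {α : MulAut (SL m F)} {two : Prop}

local notation "q" => Nat.card F

namespace Gd

/-- model form of `Good` -/
def GM (α : MulAut (SL m F)) (two : Prop) : Prop :=
  ∃ u v x : SL m F, α u = u ∧ α v = v ∧ ⁅u, v⁆ * ⁅u, v⁆ = 1 ∧ ⁅u, v⁆ ≠ 1 ∧ α x = ⁅u, v⁆ * x ∧
    (two → IsPGroup 2 (closure ({u, v} : Set (SL m F))))

theorem GM.conj (h : GM α two) (β : MulAut (SL m F)) : GM (β * α * β⁻¹) two := by
  obtain ⟨u, v, x, h1, h2, h3, h4, h5, h6⟩ := h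
  refine ⟨β u, β v, β x, by simp [h1], by simp [h2], ?_, ?_, ?_, fun k => ?_⟩
  · rw [← map_commutatorElement, ← map_mul, h3, map_one]
  · rwa [← map_commutatorElement, Ne, EmbeddingLike.map_eq_one_iff]
  · rw [← map_commutatorElement, ← map_mul, ← h5]; simp
  · have := (h6 k).map β.toMonoidHom
    rwa [MonoidHom.map_closure, Set.image_pair] at this

theorem GM.of_eq (h3 : 3 ≤ m) (h : GM (res δ) two) {s : Fˣ} {p : GL (Fin m) F}
    (e : inl (scal _ s) * γ = inl p * δ * (inl p)⁻¹) : GM (res γ) two := by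
  have := congrArg res e
  rw [map_mul, (res_eq_one h3).2 ⟨right_inl _, scal_mem _⟩, one_mul, map_mul, map_mul, map_inv] at this
  exact this ▸ h.conj _

theorem two_of {H : Type*} [Group H] [Finite H] {u v : H} (u4 : u ^ 2 ^ 2 = 1) (v4 : v ^ 2 ^ 2 = 1)
    (a2 : ⁅u, v⁆ * ⁅u, v⁆ = 1) (au : Commute ⁅u, v⁆ u) (av : Commute ⁅u, v⁆ v) :
    IsPGroup 2 (closure ({u, v} : Set H)) := by
  have p : IsPGroup 2 ↥(zpowers u ⊔ zpowers ⁅u, v⁆) := (isPGroup_zpowers u4).to_sup_of_normal_left'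
    (isPGroup_zpowers (k := 1) (by simpa [pow_two] using a2)) (zpowers_le.2 (mem_normalizer_of_cj_le (by
      rw [cj_zpowers, au.eq, mul_inv_cancel_right])))
  refine (p.to_sup_of_normal_left' (isPGroup_zpowers v4) (zpowers_le.2 (mem_normalizer_of_cj_le ?_))).to_le
    ((closure_le _).2 (Set.insert_subset (mem_sup_left (mem_sup_left (mem_zpowers u)))
      (Set.singleton_subset_iff.2 (mem_sup_right (mem_zpowers v)))))
  rw [cj_sup, cj_zpowers, cj_zpowers, ← av.eq, mul_inv_cancel_right,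
    show v * u * v⁻¹ = ⁅u, v⁆⁻¹ * u by simp only [commutatorElement_def]; group]
  exact sup_le (zpowers_le.2 (mul_mem (inv_mem (mem_sup_right (mem_zpowers _))) (mem_sup_left (mem_zpowers _))))
    le_sup_right

theorem gm_of {u v a x : SL m F} (fu : α u = u) (fv : α v = v) (e : u * v = a * (v * u)) (a2 : a * a = 1)
    (a1 : a ≠ 1) (hx : α x = a * x)
    (p : two → u * u * (u * u) = 1 ∧ v * v * (v * v) = 1 ∧ a * u = u * a ∧ a * v = v * a) : GM α two := by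
  obtain rfl : ⁅u, v⁆ = a := by rw [commutatorElement_def, e]; group
  exact ⟨u, v, x, fu, fv, a2, a1, hx, fun k => two_of (by rw [← (p k).1, pow_two 2, pow_mul, pow_two, pow_two])
    (by rw [← (p k).2.1, pow_two 2, pow_mul, pow_two, pow_two]) a2
    (p k).2.2.1 (p k).2.2.2⟩

/-- a Heisenberg triple of square zero matrices -/
theorem gm_tau {N B C : Mt m F} {x : SL m F} (h1 : N * N = 0) (h2 : B * B = 0) (h3 : N * B = C) (h4 : B * N = 0)
    (c0 : C ≠ 0) (fN : mact γ N = N) (fB : mact γ B = B) (hx : res γ x = tau C * x) : GM (res γ) two := by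
  have c1 : N * C = 0 := by rw [← h3, ← mul_assoc, h1, zero_mul]
  have c2 : C * N = 0 := by rw [← h3, mul_assoc, h4, mul_zero]
  have c3 : B * C = 0 := by rw [← h3, ← mul_assoc, h4, zero_mul]
  have c4 : C * B = 0 := by rw [← h3, mul_assoc, h2, mul_zero]
  have c5 : C * C = 0 := by nth_rw 2 [← h3]; rw [← mul_assoc, c2, zero_mul]
  refine gm_of (u := tau N) (v := tau B) (by rw [res_tau _ h1, fN]) (by rw [res_tau _ h2, fB]) (mt_inj ?_)
    (tau_tau _) (by rwa [Ne, tau_eq_one c5]) hx fun _ => ⟨by simp [tau_tau], by simp [tau_tau], ?_, ?_⟩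
  · simp only [map_mul, coe_tau h1, coe_tau h2, coe_tau c5, add_mul, mul_add, one_mul, mul_one, h3, h4, c2, c4,
      add_zero]
    abel
  · rw [tau_mul c5 h1 c2 c1, tau_mul h1 c5 c1 c2, add_comm]
  · rw [tau_mul c5 h2 c4 c3, tau_mul h2 c5 c3 c4, add_comm]

theorem inn_x {C : Mt m F} {x : SL m F} (hn : n * n = 0) (cc : C * C = 0) (h1 : C * n = 0) (h2 : n * C = 0)
    (e : mt x * n * mt x⁻¹ = C + n) : res (inn (tau n)) x = tau C * x := by
  have := conj_tau x hn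
  rw [e, ← tau_mul cc hn h1 h2, mul_inv_eq_iff_eq_mul] at this
  rw [res_inn, tau_inv, mul_assoc, this, ← mul_assoc, ← mul_assoc, tau_mul hn cc h2 h1, add_comm,
    ← tau_mul cc hn h1 h2, mul_assoc (tau C), tau_tau, mul_one]

theorem inn_fix {N : Mt m F} (hn : n * n = 0) (e : n * N = N * n) : mact (inn (tau n)) N = N := by
  rw [mact_inn, conj_iff, coe_tau hn, add_mul, mul_add, e, one_mul, mul_one]

theorem inner (h3 : 3 ≤ m) (big : m ≤ 4 → 2 < q) (hn : n * n = 0) (n0 : n ≠ 0) :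
    GM (res (inn (tau n))) two := by
  obtain ⟨w, hw⟩ : ∃ v, n *ᵥ v ≠ 0 := by
    by_contra! k; exact n0 (mat_ext fun v => by simp [k])
  have nn : ∀ v, n *ᵥ (n *ᵥ v) = 0 := fun v => by rw [mulVec_mulVec, hn, zero_mulVec]
  by_cases r : ∃ v, n *ᵥ v ∉ pt (n *ᵥ w)
  · obtain ⟨v, hv⟩ := r
    obtain ⟨χ, c1, c2, c3⟩ := exists_perp2 (u := n *ᵥ v) (W := pt (n *ᵥ w)) (v := w) fun k => by
      obtain ⟨_, a', _, b', e⟩ := Submodule.mem_sup.1 k
      obtain ⟨b, rfl⟩ := mem_pt.1 b'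
      obtain ⟨a, rfl⟩ := mem_pt.1 a'
      have := congrArg (n *ᵥ ·) e
      simp only [mulVec_add, mulVec_smul, nn, smul_zero, zero_add, smul_eq_zero, hw, or_false] at this
      exact hv (mem_pt.2 ⟨a, by simpa [this] using e⟩)
    replace c3 := c3 _ (mem_pt_self _)
    have d : ∀ u, (χ ᵥ* n) ⬝ᵥ n *ᵥ u = 0 := fun u => by rw [vec_dot, nn, dotProduct_zero]
    have d' : χ ᵥ* n ᵥ* n = 0 := by rw [vecMul_vecMul, hn, vecMul_zero]
    have z : ∀ u : Vc m F, vv u 0 = 0 := fun u => vecMulVec_zero u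
    have z' : ∀ u : Vc m F, vv 0 u = 0 := fun u => zero_vecMulVec u
    refine gm_tau (N := vv (n *ᵥ w) χ + vv w (χ ᵥ* n)) (B := vv (n *ᵥ v) (χ ᵥ* n))
      (C := vv (n *ᵥ w) (χ ᵥ* n)) (x := tau (vv (n *ᵥ w) χ)) ?_ (vv_sq (d v)) ?_ ?_ (fun k => ?_)
      (inn_fix hn ?_) (inn_fix hn ?_) (inn_x hn (vv_sq (d w)) ?_ ?_ ?_)
    · simp only [add_mul, mul_add, vv_mul, vec_dot χ, c2, c3, nn, dotProduct_zero, zero_smul, add_zero]
    · simp only [add_mul, vv_mul, c1, d, zero_smul, one_smul, add_zero]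
    · simp only [mul_add, vv_mul, vec_dot χ, c3, nn, dotProduct_zero, zero_smul, add_zero]
    · have := congrArg (· *ᵥ v) k
      simp only [vv_vec, vec_dot, c1, one_smul, zero_mulVec] at this
      exact hw this
    · simp only [add_mul, mul_add, mul_vv, vv_mul', nn, d', z, z', zero_add, add_zero]
    · simp only [mul_vv, vv_mul', nn, d', z, z']
    · rw [vv_mul', d', z]
    · rw [mul_vv, nn, z']
    · rw [tau_inv, coe_tau (vv_sq c3)]
      simp only [add_mul, mul_add, one_mul, mul_one, mul_vv, vv_mul', vv_vec, nn, d, z', zero_smul, add_zero,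
        add_mulVec, add_comm n]
  push Not at r
  obtain ⟨χ, hχ⟩ := exists_dot_one hw
  obtain ⟨p, φ, p0, e, rfl⟩ : ∃ p φ, p ≠ 0 ∧ φ ⬝ᵥ p = 0 ∧ n = vv p φ := ⟨_, χ ᵥ* n, hw,
    by rw [vec_dot, nn, dotProduct_zero], mat_ext fun v => by
      obtain ⟨c, e⟩ := mem_pt.1 (r v)
      rw [vv_vec, vec_dot, ← e, dotProduct_smul, dotProduct_comm, hχ, smul_eq_mul, mul_one]⟩
  have φ0 : φ ≠ 0 := fun k => n0 (vv_eq_zero.2 (.inr k))
  obtain ⟨v, v1, v2⟩ := exists_of_lt (W := pt p) (W' := ⊤ ⊓ hp φ) (by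
    have := finrank_inf_hp ⊤ φ
    have := finrank_pt_le p
    rw [finrank_top, Module.finrank_fin_fun] at *
    omega)
  obtain ⟨η, e1, e2⟩ := exists_perp v2
  replace e2 := e2 _ (mem_pt_self _)
  obtain ⟨ψ, s1, s2, s3, s4⟩ : ∃ ψ : Vc m F, ψ ⬝ᵥ p = 0 ∧ ψ ⬝ᵥ v = 0 ∧ ψ ≠ 0 ∧ ψ + φ ≠ 0 := by
    by_cases k : m ≤ 4
    · obtain ⟨c, c0, c1⟩ := exists_ne (big k)
      refine ⟨c • φ, by simp [e], by simp [mem_hp.1 v1.2], smul_ne_zero c0 φ0, ?_⟩
      rw [← one_smul F φ, smul_smul, ← add_smul]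
      exact smul_ne_zero (by rwa [mul_one, Ne, CharTwo.add_eq_zero]) φ0
    obtain ⟨u, hu⟩ := exists_dot_one φ0
    obtain ⟨y, hy⟩ := exists_notMem (W := pt p ⊔ pt v ⊔ pt u) (by
      have := finrank_sup_le (pt p ⊔ pt v) u
      have := finrank_sup_le (pt p) v
      have := finrank_pt_le p
      omega)
    obtain ⟨ψ, a1, a2, a3⟩ := exists_perp2 hy
    refine ⟨ψ, (perp_sup a3).1 _ (mem_pt_self _), (perp_sup a3).2 _ (mem_pt_self _), by rintro rfl; simp at a1,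
      fun k => ?_⟩
    simpa [a2, hu] using congrArg (· ⬝ᵥ u) k
  obtain ⟨x, hx⟩ := R1.trans' ⟨p, φ, e, rfl⟩ ⟨p, ψ + φ, by simp [e, s1], rfl⟩ n0 (by simp [vv_eq_zero, p0, s4])
  exact gm_tau (N := vv p η) (B := vv v ψ) (C := vv p ψ) (vv_sq e2) (vv_sq s2) (by rw [vv_mul, e1, one_smul])
    (by rw [vv_mul, s1, zero_smul]) (by simp [vv_eq_zero, p0, s3]) (inn_fix hn (by simp [vv_mul, e, e2]))
    (inn_fix hn (by simp [vv_mul, s1, mem_hp.1 v1.2])) (inn_x hn (vv_sq s1) (by simp [vv_mul, s1])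
      (by simp [vv_mul, e]) (hx.trans (vv_add_right _ _ _)))

theorem map_bv (σ : RingAut F) (i j : Fin m) : (vv (bv i) (bv j)).map σ = vv (bv i) (bv j) :=
  Matrix.ext fun a b => by by_cases x : a = i <;> by_cases y : b = j <;> simp [vecMulVec_apply, x, y]

theorem field0 (h3 : 3 ≤ m) {σ : RingAut F} (s1 : σ ≠ 1) (s2 : σ * σ = 1) :
    GM (res (inr (σ, 1) : Gam m F)) two := by
  obtain ⟨ω, o⟩ := ex_om s1 s2
  let i : Fin m := ⟨0, by omega⟩
  let j : Fin m := ⟨1, by omega⟩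
  let k : Fin m := ⟨2, by omega⟩
  have z : ∀ a b : F, a • vv (bv i : Vc m F) (bv k) * b • vv (bv i : Vc m F) (bv k) = 0 := fun a b => by
    rw [smul_mul_smul_comm, vv_sq (by simp [i, k]), smul_zero]
  refine gm_tau (N := vv (bv i) (bv j)) (B := vv (bv j) (bv k)) (C := vv (bv i) (bv k))
    (x := tau (ω • vv (bv i) (bv k))) (by simp [vv_mul, i, j]) (by simp [vv_mul, j, k]) (by simp [vv_mul])
    (by simp [vv_mul, i, k]) (by simp [vv_eq_zero, bv_ne]) (by rw [mact_inr, map_bv]) (by rw [mact_inr, map_bv]) ?_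
  rw [res_tau _ (z _ _), mact_inr, map_smul_aut, map_bv, show tau (vv (bv i) (bv k)) = tau ((1 : F) • _) by
    rw [one_smul], tau_mul (z _ _) (z _ _) (z _ _) (z _ _), ← add_smul, ← o, add_comm ω, add_assoc,
    CharTwo.add_self_eq_zero, add_zero]

theorem field (h3 : 3 ≤ m) {σ : RingAut F} (s1 : σ ≠ 1) (r : γ.right = (σ, 1)) (e : res (γ * γ) = 1) :
    GM (res γ) two := by
  obtain ⟨e1, e2⟩ := (res_eq_one h3).1 e
  rw [mul_right, r] at e1
  rw [mul_left, r, linAct_one] at e2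
  have s2 : σ * σ = 1 := congrArg Prod.fst e1
  have : Nonempty (Fin m) := ⟨⟨0, by omega⟩⟩
  obtain ⟨s, p, a⟩ := lang_gl (γ := ⟨γ.left, σ⟩) e2 (by
    rw [show orderOf σ = 2 from orderOf_eq_prime (by rwa [pow_two]) s1, pow_two]
    exact SemidirectProduct.ext rfl s2)
  refine (field0 h3 s1 s2).of_eq h3 (s := s) (p := p) (SemidirectProduct.ext ?_ (by simp [r]))
  simpa [linAct_one] using congrArg SemidirectProduct.left a

variable {j : ℕ} {P : Matrix (Fin m) (Fin j) F} {A : Mt m F} {Γ U V C Y : Mt j F}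

/-- the twisted product -/
def circ (Γ X Y : Mt j F) : Mt j F := X + Y + X * Γ * Y

theorem blk_circ (h : Pᵀ * (A * P) = Γ) (X Y : Mt j F) :
    (1 + blk P A X) * (1 + blk P A Y) = 1 + blk P A (circ Γ X Y) := by
  rw [circ, blk_add, blk_add, add_mul, mul_add, mul_add, one_mul, one_mul, mul_one, ← h]
  simp only [blk, Matrix.mul_assoc, add_assoc, add_left_comm]

theorem blk_sl (h : Pᵀ * (A * P) = Γ) {X : Mt j F}
    (e : (1 + X * Γ).det = 1 ∨ circ Γ (circ Γ X X) (circ Γ X X) = 0) : ∃ g : SL m F, mt g = 1 + blk P A X := by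
  refine ⟨mkS (1 + blk P A X) (e.elim (fun e => ?_) fun e => ?_), rfl⟩
  · rwa [blk, Matrix.mul_assoc P, Matrix.mul_assoc P, det_one_add_mul_comm, Matrix.mul_assoc, Matrix.mul_assoc, h]
  · have := congrArg (fun X => (1 + blk P A X).det) e
    simp only [← blk_circ h, det_mul] at this
    simpa [blk, mul_self_eq_one_iff, CharTwo.neg_eq] using this

/-- the small matrix conditions -/
structure Bk (σ : RingAut F) (Γ U V C Y : Mt j F) (two : Prop) : Prop where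
  fU : circ Γ U (Uᵀ.map σ) = 0
  fV : circ Γ V (Vᵀ.map σ) = 0
  e : circ Γ U V = circ Γ C (circ Γ V U)
  cc : C * Γ * C = 0
  hY : circ Γ (Yᵀ.map σ) Y = C
  v4 : circ Γ (circ Γ V V) (circ Γ V V) = 0
  y4 : circ Γ (circ Γ Y Y) (circ Γ Y Y) = 0
  cV : C * Γ * V = V * Γ * C
  p : ((1 + U * Γ).det = 1 ∧ ¬ two) ∨ (circ Γ (circ Γ U U) (circ Γ U U) = 0 ∧ C * Γ * U = U * Γ * C)

theorem Bk.gm (b : Bk γ.right.1 Γ U V C Y two) (h : Pᵀ * (A * P) = Γ) (gr : γ.right.2 = gen)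
    (ad : ∀ X, mact γ (blk P A X) = blk P A (Xᵀ.map γ.right.1)) (hA : A.det ≠ 0) (inj : ∀ v, P *ᵥ v = 0 → v = 0)
    (c0 : C ≠ 0) : GM (res γ) two := by
  have p := b.p
  have cc : circ Γ C C = 0 := by rw [circ, b.cc, m2, add_zero]
  have z : blk P A 0 = 0 := by simp [blk]
  obtain ⟨u, hu⟩ := blk_sl h (p.imp And.left And.left)
  obtain ⟨v, hv⟩ := blk_sl h (.inr b.v4)
  obtain ⟨y, hy⟩ := blk_sl h (.inr b.y4)
  obtain ⟨a, ha⟩ := blk_sl h (X := C) (.inr (by rw [cc]; simp [circ]))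
  have r : ∀ {g : SL m F} {X}, mt g = 1 + blk P A X → mt (res γ g⁻¹) = 1 + blk P A (Xᵀ.map γ.right.1) :=
    fun e => by rw [coe_res_gr gr, inv_inv, e, mact_add, mact_one, ad]
  have f : ∀ {g : SL m F} {X}, mt g = 1 + blk P A X → circ Γ X (Xᵀ.map γ.right.1) = 0 → res γ g = g :=
    fun {g} _ e k => by
      rw [← _root_.inv_inj, ← map_inv, eq_comm, inv_eq_iff_mul_eq_one]
      exact mt_inj (by rw [map_mul, r e, e, blk_circ h, k, z, add_zero, map_one])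
  refine gm_of (a := a) (x := y⁻¹) (f hu b.fU) (f hv b.fV) (mt_inj ?_) (mt_inj ?_) (fun k => c0 ?_)
    (eq_mul_inv_of_mul_eq (mt_inj ?_)) fun k => ⟨mt_inj ?_, mt_inj ?_, mt_inj ?_, mt_inj ?_⟩
  · simp only [map_mul, hu, hv, ha, blk_circ h, b.e]
  · rw [map_mul, ha, blk_circ h, cc, z, add_zero, map_one]
  · exact blk_inj hA inj (by simpa [k] using ha.symm)
  · rw [map_mul, r hy, hy, blk_circ h, b.hY, ha]
  · simp only [map_mul, hu, blk_circ h, (p.resolve_left fun a => a.2 k).1, z, add_zero, map_one]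
  · simp only [map_mul, hv, blk_circ h, b.v4, z, add_zero, map_one]
  · simp only [map_mul, hu, ha, blk_circ h, circ, (p.resolve_left fun a => a.2 k).2, add_comm C]
  · simp only [map_mul, hv, ha, blk_circ h, circ, b.cV, add_comm C]

theorem ad2 (σ : RingAut F) (a b c d : F) : !![a, b; c, d]ᵀ.map σ = !![σ a, σ c; σ b, σ d] := by
  ext i j; fin_cases i <;> fin_cases j <;> simp

theorem ad3 (a b c d e f g h i : F) : !![a, b, c; d, e, f; g, h, i]ᵀ.map (1 : RingAut F) =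
    !![a, d, g; b, e, h; c, f, i] := by
  ext i j; fin_cases i <;> fin_cases j <;> simp

theorem ad4 (a b c d e f g h i j k l m n o p : F) :
    !![a, b, c, d; e, f, g, h; i, j, k, l; m, n, o, p]ᵀ.map (1 : RingAut F) =
      !![a, e, i, m; b, f, j, n; c, g, k, o; d, h, l, p] := by
  ext i j; fin_cases i <;> fin_cases j <;> simp

theorem z2 : (0 : Mt 2 F) = !![0, 0; 0, 0] := by ext i j; fin_cases i <;> fin_cases j <;> simp
theorem z3 : (0 : Mt 3 F) = !![0, 0, 0; 0, 0, 0; 0, 0, 0] := by ext i j; fin_cases i <;> fin_cases j <;> simp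
theorem z4 : (0 : Mt 4 F) = !![0, 0, 0, 0; 0, 0, 0, 0; 0, 0, 0, 0; 0, 0, 0, 0] := by
  ext i j; fin_cases i <;> fin_cases j <;> simp

theorem bkU {σ : RingAut F} {ω : F} (o : σ ω = 1 + ω) (o' : σ (1 + ω) = ω) :
    Bk σ !![0, 0; 0, 1] !![ω, 1; 1, 0] !![ω * ω * (1 + ω), 1 + ω; ω, 0] !![1, 0; 0, 0] !![ω, 0; 0, 0] two := by
  refine ⟨?_, ?_, ?_, ?_, ?_, ?_, ?_, ?_, .inr ⟨?_, ?_⟩⟩ <;>
    (try simp only [ad2, z2, map_mul, o, o', map_one, map_zero]) <;>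
    simp [circ, funext_iff, Fin.forall_fin_succ] <;> grind

theorem bkT {a b : F} (o : a * b = 1) :
    Bk 1 !![0, 1, 0; 1, 0, 0; 0, 0, 1] !![0, a + 1, 0; b + 1, 0, 0; 0, 0, 0] !![1, 0, 0; 0, 0, 0; 0, 0, 0]
      !![a * a + 1, 0, 0; 0, 0, 0; 0, 0, 0] !![0, 0, a + 1; 0, 0, 0; a + 1, 0, 0] False := by
  refine ⟨?_, ?_, ?_, ?_, ?_, ?_, ?_, ?_, .inl ⟨?_, id⟩⟩ <;> (try simp only [ad3, z3, one_fin_three]) <;>
    simp [circ, funext_iff, Fin.forall_fin_succ, det_fin_three] <;> grind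

theorem bk1 (a : F) :
    Bk 1 !![0, 0, 0; 0, 0, 1; 0, 1, 0] !![0, 1, 1; 0, 1, 0; 1, 0, 0] !![0, a * a * a, a; 0, a * a, 0; a, 0, 0]
      !![0, a + a * a, 0; a + a * a, 0, 0; 0, 0, 0] !![0, a + a * a, 0; 0, 0, 0; 0, 0, 0] two := by
  refine ⟨?_, ?_, ?_, ?_, ?_, ?_, ?_, ?_, .inr ⟨?_, ?_⟩⟩ <;> (try simp only [ad3, z3]) <;>
    simp [circ, funext_iff, Fin.forall_fin_succ] <;> grind

theorem bk2 : Bk (1 : RingAut F) !![0, 0, 0, 0; 0, 0, 0, 0; 0, 0, 0, 1; 0, 0, 1, 0]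
    !![0, 0, 1, 0; 0, 0, 0, 0; 1, 0, 0, 0; 0, 0, 0, 0] !![0, 0, 0, 0; 0, 0, 0, 1; 0, 0, 0, 0; 0, 1, 0, 0]
    !![0, 1, 0, 0; 1, 0, 0, 0; 0, 0, 0, 0; 0, 0, 0, 0] !![0, 1, 0, 0; 0, 0, 0, 0; 0, 0, 0, 0; 0, 0, 0, 0] two := by
  refine ⟨?_, ?_, ?_, ?_, ?_, ?_, ?_, ?_, .inr ⟨?_, ?_⟩⟩ <;> (try simp only [ad4, z4]) <;>
    simp [circ, funext_iff, Fin.forall_fin_succ, CharTwo.add_self_eq_zero]

theorem bk3 : Bk (1 : RingAut F) !![0, 0, 0, 0; 0, 0, 1, 0; 0, 1, 0, 0; 0, 0, 0, 1]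
    !![0, 0, 1, 0; 0, 0, 0, 0; 1, 0, 0, 0; 0, 0, 0, 0] !![0, 0, 0, 0; 0, 1, 0, 0; 0, 0, 0, 0; 0, 0, 0, 0]
    !![1, 1, 0, 0; 1, 0, 0, 0; 0, 0, 0, 0; 0, 0, 0, 0] !![0, 1, 0, 1; 0, 0, 0, 0; 0, 0, 0, 0; 1, 0, 0, 0] two := by
  refine ⟨?_, ?_, ?_, ?_, ?_, ?_, ?_, ?_, .inr ⟨?_, ?_⟩⟩ <;> (try simp only [ad4, z4]) <;>
    simp [circ, funext_iff, Fin.forall_fin_succ, CharTwo.add_self_eq_zero]

theorem gram (v : Fin j → Vc m F) (e : ∀ a b, v a ⬝ᵥ A *ᵥ v b = Γ a b) : (of v)ᵀᵀ * (A * (of v)ᵀ) = Γ :=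
  Matrix.ext e

theorem cols_vec (v : Fin j → Vc m F) (c : Vc j F) : (of v)ᵀ *ᵥ c = ∑ a, c a • v a := by
  rw [mulVec_transpose, vecMul_eq_sum]; rfl

theorem gram_vec (h : Pᵀ * (A * P) = Γ) {c : Vc j F} (e : P *ᵥ c = 0) : Γ *ᵥ c = 0 := by
  rw [← h, ← mulVec_mulVec, ← mulVec_mulVec, e, mulVec_zero, mulVec_zero]

theorem unit0 (h3 : 3 ≤ m) {σ : RingAut F} (s1 : σ ≠ 1) (s2 : σ * σ = 1) :
    GM (res (inr (σ, gen) : Gam m F)) two := by
  obtain ⟨ω, o⟩ := ex_om s1 s2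
  have o1 : σ ω = 1 + ω := by rw [← o, add_comm ω, add_assoc, CharTwo.add_self_eq_zero, add_zero]
  let i : Fin m := ⟨0, by omega⟩
  let j : Fin m := ⟨1, by omega⟩
  let k : Fin m := ⟨2, by omega⟩
  let v : Fin 2 → Vc m F := ![bv i + bv j, bv k]
  have g : (of v)ᵀᵀ * ((1 : Mt m F) * (of v)ᵀ) = !![0, 0; 0, 1] := gram v fun a b => by
    fin_cases a <;> fin_cases b <;> simp [v, i, j, k, CharTwo.add_self_eq_zero]
  have r : (of v)ᵀ.map σ = (of v)ᵀ := Matrix.ext fun a b => by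
    fin_cases b <;> simp [v, Pi.single_apply, apply_ite σ]
  refine (bkU o1 (by rw [← o1, ss s2])).gm (γ := inr (σ, gen)) g rfl (fun X => ?_) (by simp) (fun c e => ?_)
    fun e => by simpa using congrFun (congrFun e 0) 0
  · rw [mact_gr rfl]
    generalize (of v)ᵀ = P at r
    simp only [blk, mul_one, left_inr, right_inr, Units.val_one, one_mul, inv_one, transpose_mul,
      transpose_transpose, Matrix.mul_assoc]
    rw [Matrix.map_mul (f := σ), Matrix.map_mul (f := σ), transpose_map, transpose_map (M := P), r]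
  · rw [cols_vec, Fin.sum_univ_two] at e
    have a := congrFun e i
    have b := congrFun e k
    ext x; fin_cases x
    · simpa [v, i, j, k] using a
    · simpa [v, i, j, k] using b

theorem unit (h3 : 3 ≤ m) {σ : RingAut F} (s1 : σ ≠ 1) (r : γ.right = (σ, gen)) (e : res (γ * γ) = 1) :
    GM (res γ) two := by
  have e1 := ((res_eq_one h3).1 e).1
  rw [mul_right, r] at e1
  have s2 : σ * σ = 1 := congrArg Prod.fst e1
  have o : orderOf σ = 2 := orderOf_eq_prime (by rwa [pow_two]) s1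
  have := Fintype.ofFinite F
  obtain ⟨i, -, c⟩ := card_F F
  rw [Nat.card_eq_fintype_card] at c
  obtain ⟨i, rfl⟩ := o ▸ orderOf_dvd_of_card c σ
  obtain ⟨s, p, a⟩ := herm h3 (isConjug_of_orderOf (show _ = (2 ^ i) ^ 2 by rw [c, ← pow_mul, mul_comm]) o) r e
  refine (unit0 h3 s1 s2).of_eq h3 (s := s) (p := invT _ F p) (SemidirectProduct.ext ?_ (by simp [r]))
  simp [← a, linAct_gen, invT_invT]

theorem iso_le (hA : A.det ≠ 0) {W : Submodule F (Vc m F)} (h : ∀ u ∈ W, ∀ v ∈ W, u ⬝ᵥ A *ᵥ v = 0) :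
    2 * finrank F W ≤ m := by
  have := Submodule.finrank_mono (show W ≤ (toBilin' A).orthogonal W from fun v a u b =>
    (toBilin'_apply' _ _ _).trans (h u b v a))
  have l := finrank_le W
  rw [LinearMap.BilinForm.finrank_orthogonal (nd_of_det' hA), Module.finrank_fin_fun] at this
  generalize finrank F W = a at *
  omega

theorem iso_add (sy : Aᵀ = A) (u v : Vc m F) : (u + v) ⬝ᵥ A *ᵥ (u + v) = u ⬝ᵥ A *ᵥ u + v ⬝ᵥ A *ᵥ v := by
  simp only [mulVec_add, add_dotProduct, dotProduct_add, sym_dot sy u v]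
  rw [add_assoc, ← add_assoc (v ⬝ᵥ A *ᵥ u), CharTwo.add_self_eq_zero, zero_add]

theorem iso_smul (c : F) (u : Vc m F) : (c • u) ⬝ᵥ A *ᵥ (c • u) = c * c * u ⬝ᵥ A *ᵥ u := by
  rw [mulVec_smul, smul_dotProduct, dotProduct_smul, smul_smul, smul_eq_mul]

theorem iso_vec (sy : Aᵀ = A) {W B : Submodule F (Vc m F)} (h : finrank F W + 2 ≤ finrank F B) :
    ∃ w ∈ B, w ∉ W ∧ w ⬝ᵥ A *ᵥ w = 0 := by
  obtain ⟨u, u1, u2⟩ := exists_of_lt (W := W) (W' := B) (by omega)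
  obtain ⟨v, v1, v2⟩ := exists_of_lt (W := W ⊔ pt u) (W' := B) (by rw [finrank_sup_pt u2]; omega)
  by_cases k : u ⬝ᵥ A *ᵥ u = 0
  · exact ⟨u, u1, u2, k⟩
  obtain ⟨c, hc⟩ := exists_root 1 (v ⬝ᵥ A *ᵥ v / u ⬝ᵥ A *ᵥ u)
  refine ⟨v + c • u, add_mem v1 (Submodule.smul_mem _ _ u1), fun e => v2 ?_, ?_⟩
  · simpa using sub_mem (Submodule.mem_sup_left (T := pt u) e) (Submodule.mem_sup_right (mem_pt.2 ⟨c, rfl⟩))
  · rw [iso_add sy, iso_smul, ← pow_two, ← pow_one 2, hc, div_mul_cancel₀ _ k, CharTwo.add_self_eq_zero]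

theorem unit_vec {u : Vc m F} (h : u ⬝ᵥ A *ᵥ u ≠ 0) : ∃ c : F, (c • u) ⬝ᵥ A *ᵥ (c • u) = 1 :=
  (exists_root 1 (u ⬝ᵥ A *ᵥ u)⁻¹).imp fun c hc => by
    rw [iso_smul, ← pow_two, ← pow_one 2, hc, inv_mul_cancel₀ h]

theorem hyp_pair (h3 : 3 ≤ m) (hA : A.det ≠ 0) (sy : Aᵀ = A) :
    ∃ u v : Vc m F, u ⬝ᵥ A *ᵥ u = 0 ∧ v ⬝ᵥ A *ᵥ v = 0 ∧ u ⬝ᵥ A *ᵥ v = 1 := by
  let W : Submodule F (Vc m F) :=
    { carrier := {v | v ⬝ᵥ A *ᵥ v = 0}
      zero_mem' := by simp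
      add_mem' := fun a b => (iso_add sy _ _).trans (by rw [a, b, add_zero])
      smul_mem' := fun c _ a => (iso_smul _ _).trans (by rw [a, mul_zero]) }
  have l : ¬ finrank F W + 2 ≤ finrank F (⊤ : Submodule F (Vc m F)) := fun k =>
    (iso_vec sy k).elim fun w a => a.2.1 a.2.2
  rw [finrank_top, Module.finrank_fin_fun] at l
  obtain ⟨u, a, v, b, e⟩ : ∃ u ∈ W, ∃ v ∈ W, u ⬝ᵥ A *ᵥ v ≠ 0 := by
    by_contra! k
    have := iso_le hA k
    omega
  exact ⟨u, (u ⬝ᵥ A *ᵥ v)⁻¹ • v, a, W.smul_mem _ b, by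
    rw [mulVec_smul, dotProduct_smul, smul_eq_mul, inv_mul_cancel₀ e]⟩

theorem graph (h3 : 3 ≤ m) (big : m ≤ 4 → 2 < q) (r : γ.right = (1, gen)) (e : res (γ * γ) = 1) :
    GM (res γ) (m ≠ 3) := by
  have sy := graph_symm h3 r e
  have gr : γ.right.2 = gen := by rw [r]
  have r1 : γ.right.1 = 1 := by rw [r]
  obtain ⟨A, hA⟩ : ∃ A, A = (γ.left⁻¹).1 := ⟨_, rfl⟩
  have sA : Aᵀ = A := by
    rw [← mul_one Aᵀ, ← γ.left.mul_inv, ← mul_assoc, ← sy, ← transpose_mul, hA, Units.mul_inv]; simp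
  have dA : A.det ≠ 0 := hA ▸ (γ.left⁻¹).det_ne_zero
  have s := sym_dot sA
  have key : ∀ {j : ℕ} (v : Fin j → Vc m F) {Γ U V C Y : Mt j F} {two : Prop}, Bk 1 Γ U V C Y two →
      (∀ a b, v a ⬝ᵥ A *ᵥ v b = Γ a b) → (∀ c, Γ *ᵥ c = 0 → ∑ a, c a • v a = 0 → c = 0) → C ≠ 0 →
      GM (res γ) two := fun v Γ U V C Y two b g i c =>
    (r1 ▸ b).gm (gram v g) gr (fun X => by
      rw [mact_gr gr, r1, blk, transpose_mul, sA, hA]
      refine (congrArg (· * _) (Units.mul_inv_cancel_left _ _)).trans ?_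
      rw [transpose_mul, transpose_mul, transpose_transpose, ← Matrix.mul_assoc]; rfl) dA
      (fun c e => i c (gram_vec (gram v g) e) ((cols_vec v c).symm.trans e)) c
  obtain ⟨x, y, xx, yy, xy⟩ := hyp_pair h3 dA sA
  have b1 := finrank_inf_hp ⊤ (A *ᵥ x)
  have b2 := finrank_inf_hp (⊤ ⊓ hp (A *ᵥ x)) (A *ᵥ y)
  rw [finrank_top, Module.finrank_fin_fun] at b1
  have mB : ∀ {w u : Vc m F}, w ∈ hp (A *ᵥ u) → w ⬝ᵥ A *ᵥ u = 0 := fun k => (dotProduct_comm _ _).trans k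
  rcases h3.eq_or_lt with rfl | h4
  · obtain ⟨w, ⟨⟨-, wx⟩, wy⟩, w0⟩ := exists_of_lt (W := ⊥) (W' := ⊤ ⊓ hp (A *ᵥ x) ⊓ hp (A *ᵥ y))
      (by rw [finrank_bot]; omega)
    obtain ⟨c, hc⟩ := unit_vec (A := A) (u := w) fun k => by
      have n : w ∉ pt x := fun a => by
        obtain ⟨a, rfl⟩ := mem_pt.1 a
        have := mB wy
        rw [smul_dotProduct, xy, smul_eq_mul, mul_one] at this
        exact w0 (by simp [this])
      have := iso_le dA (W := pt x ⊔ pt w) fun a ha b hb => by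
        obtain ⟨_, a1, _, a2, rfl⟩ := Submodule.mem_sup.1 ha
        obtain ⟨_, b1, _, b2, rfl⟩ := Submodule.mem_sup.1 hb
        obtain ⟨_, rfl⟩ := mem_pt.1 a1
        obtain ⟨_, rfl⟩ := mem_pt.1 a2
        obtain ⟨_, rfl⟩ := mem_pt.1 b1
        obtain ⟨_, rfl⟩ := mem_pt.1 b2
        simp [mulVec_add, mulVec_smul, xx, k, s x w, mB wx]
      rw [finrank_sup_pt n, finrank_span_singleton (by rintro rfl; simp at xy)] at this
      omega
    obtain ⟨a, a0, a1⟩ := exists_ne (big (by omega))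
    have wx' := mB (Submodule.smul_mem _ c wx)
    have wy' := mB (Submodule.smul_mem _ c wy)
    generalize c • w = z at hc wx' wy'
    have := key ![x, y, z] (bkT (mul_inv_cancel₀ a0)) (fun a b => by
      fin_cases a <;> fin_cases b <;> simp [xx, yy, xy, s y x, hc, wx', wy', s x z, s y z])
      (fun c k _ => by simpa [funext_iff, Fin.forall_fin_succ, mulVec, dotProduct, Fin.sum_univ_succ,
        and_left_comm] using k)
      fun k => sq_ne_one a1 (by simpa [CharTwo.add_eq_zero] using congrFun (congrFun k 0) 0)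
    simpa using this
  obtain ⟨w, ⟨⟨-, wx⟩, wy⟩, w0, ww⟩ := iso_vec sA (W := ⊥) (B := ⊤ ⊓ hp (A *ᵥ x) ⊓ hp (A *ᵥ y))
    (by rw [finrank_bot]; omega)
  replace wx := mB wx
  replace wy := mB wy
  rw [Submodule.mem_bot] at w0
  by_cases k : m ≤ 4
  · obtain ⟨a, a0, a1⟩ := exists_ne (big k)
    refine key ![w, x, y] (bk1 a) (fun a b => by
      fin_cases a <;> fin_cases b <;> simp [xx, yy, xy, s y x, ww, wx, wy, s x w, s y w]) (fun c k l => ?_)
      fun k => a1 (by simpa [CharTwo.add_eq_zero, a0] using congrFun (congrFun k 0) 1)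
    simp [funext_iff, Fin.forall_fin_succ, mulVec, dotProduct, Fin.sum_univ_succ] at k
    simp [Fin.sum_univ_succ, k, w0] at l
    simp [funext_iff, Fin.forall_fin_succ, k, l]
  have b3 := finrank_inf_hp (⊤ ⊓ hp (A *ᵥ x) ⊓ hp (A *ᵥ y)) (A *ᵥ w)
  by_cases n : ∃ z ∈ ⊤ ⊓ hp (A *ᵥ x) ⊓ hp (A *ᵥ y) ⊓ hp (A *ᵥ w), z ⬝ᵥ A *ᵥ z ≠ 0
  · obtain ⟨z, hz, zz⟩ := n
    obtain ⟨c, hc⟩ := unit_vec zz
    obtain ⟨⟨⟨-, zx⟩, zy⟩, zw⟩ := Submodule.smul_mem _ c hz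
    generalize c • z = z at hc zx zy zw
    refine key ![w, x, y, z] bk3 (fun a b => by
      fin_cases a <;> fin_cases b <;>
        simp [xx, yy, xy, s y x, ww, wx, wy, s x w, s y w, hc, mB zx, mB zy, mB zw, s x z, s y z, s w z])
      (fun c k l => ?_) fun k => by simpa using congrFun (congrFun k 0) 1
    simp [funext_iff, Fin.forall_fin_succ, mulVec, dotProduct, Fin.sum_univ_succ] at k
    simp [Fin.sum_univ_succ, k, w0] at l
    simp [funext_iff, Fin.forall_fin_succ, k, l]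
  push Not at n
  obtain ⟨z, hz, z0⟩ := exists_of_lt (W := pt w) (W' := ⊤ ⊓ hp (A *ᵥ x) ⊓ hp (A *ᵥ y) ⊓ hp (A *ᵥ w))
    (by have := finrank_pt_le w; omega)
  have zz := n z hz
  obtain ⟨⟨⟨-, zx⟩, zy⟩, zw⟩ := hz
  refine key ![w, z, x, y] bk2 (fun a b => by
    fin_cases a <;> fin_cases b <;>
      simp [xx, yy, xy, s y x, ww, wx, wy, s x w, s y w, zz, mB zx, mB zy, mB zw, s x z, s y z, s w z])
    (fun c k l => ?_) fun k => by simpa using congrFun (congrFun k 0) 1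
  simp [funext_iff, Fin.forall_fin_succ, mulVec, dotProduct, Fin.sum_univ_succ] at k
  simp [Fin.sum_univ_succ, k] at l
  have c1 : c 1 = 0 := by
    by_contra c1
    exact z0 ((Submodule.smul_mem_iff _ c1).1 (eq_neg_of_add_eq_zero_right l ▸ neg_mem (mem_pt.2 ⟨_, rfl⟩)))
  simp [c1, w0] at l
  simp [funext_iff, Fin.forall_fin_succ, k, l, c1]

end Gd

open Gd

variable {G : Type*} [Group G] [Finite G] {π : SL m F →* G} {d : G}

local notation "L" => MonoidHom.range π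

theorem Emb.gm (h : Emb π) (nor : d ∈ 𝐍(L)) (e : d * d = 1) (nc : d ∉ 𝐂(L)) :
    ∃ u v : G, u ∈ L ⊓ 𝐂₁(d) ∧ v ∈ L ⊓ 𝐂₁(d) ∧ ⁅u, v⁆ * ⁅u, v⁆ = 1 ∧ ⁅u, v⁆ ≠ 1 ∧
      (∃ x ∈ L, x * d * x⁻¹ = d * ⁅u, v⁆) ∧ (¬ (m = 3 ∧ Gt π d) → IsPGroup 2 (closure ({u, v} : Set G))) := by
  obtain ⟨γ, a⟩ := h.acts nor
  have e2 : res (γ * γ) = 1 := (h.cent_iff (a.mul a)).1 (e ▸ one_mem _)
  obtain ⟨u, v, x, h1, h2, h3, h4, h5, h6⟩ : GM (res γ) (¬ (m = 3 ∧ Gt π d)) := by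
    obtain ⟨σ, ε, r⟩ : ∃ σ ε, γ.right = (σ, ε) := ⟨_, _, rfl⟩
    by_cases s : σ = 1 <;> rcases c2_cases ε with rfl | rfl
    · obtain ⟨g, g2, c⟩ := h.inn2 (j := 1) ⟨γ, a, by rw [r, s]; rfl⟩ (by simpa [pow_two] using e)
      obtain ⟨n, hn, rfl⟩ := exists_tau (g := g) (by simpa [pow_two] using g2)
      rw [h.res_eq a (by simpa using (Acts.of_cent c).mul (Acts.inn π (tau n)))]
      exact inner h.m3 h.big hn (by rintro rfl; exact nc (by simpa using c))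
    · obtain ⟨u, v, x, h1, h2, h3, h4, h5, h6⟩ := graph h.m3 h.big (s ▸ r) e2
      exact ⟨u, v, x, h1, h2, h3, h4, h5, fun k => h6 fun m3 => k ⟨m3, γ, a, s ▸ r⟩⟩
    · exact field h.m3 s r e2
    · exact unit h.m3 s r e2
  have f : ∀ g, res γ g = g → π g ∈ L ⊓ 𝐂₁(d) := fun g k =>
    ⟨⟨g, rfl⟩, mem_c1.2 (conj_eq_iff.1 ((a g).trans (by rw [k]))).symm⟩
  refine ⟨π u, π v, f u h1, f v h2, by rw [← map_commutatorElement, ← map_mul, h3, map_one], fun k => h4 ?_,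
    ⟨π x, ⟨x, rfl⟩, ?_⟩, fun k => ?_⟩
  · rw [← map_commutatorElement] at k
    exact h.eq_one (j := 1) (by simpa [pow_two] using h3) (k ▸ one_mem _)
  · have := a x
    rw [h5, map_mul, map_commutatorElement, inv_eq_of_mul_eq_one_right e, ← mul_inv_eq_iff_eq_mul] at this
    rw [← this, ← mul_assoc, ← mul_assoc, ← mul_assoc, e, one_mul]
  · have := (h6 k).map π
    rwa [MonoidHom.map_closure, Set.image_pair] at this

theorem Emb.good (h : Emb π) (nor : d ∈ 𝐍(L)) (e : d * d = 1) (nc : d ∉ 𝐂(L)) (ng : ¬ (m = 3 ∧ Gt π d)) :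
    Good L d := by
  obtain ⟨u, v, h1, h2, h3, h4, h5, h6⟩ := h.gm nor e nc
  exact ⟨_, h6 ng, (closure_le _).2 (Set.insert_subset h1 (Set.singleton_subset_iff.2 h2)), _,
    commutator_mem_commutator (subset_closure (.inl rfl)) (subset_closure (.inr rfl)), h3, h4, h5⟩

theorem Emb.good' (h : Emb π) (nor : d ∈ 𝐍(L)) (e : d * d = 1) (nc : d ∉ 𝐂(L)) : Good' L d := by
  obtain ⟨u, v, h1, h2, h3, h4, h5, -⟩ := h.gm nor e nc
  exact ⟨_, commutator_mem_commutator h1 h2, h3, h4, h5⟩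

end CF.Dbl
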